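import Mathlib
import Cfsg.Agent.H301.SY.Tools
import Cfsg.Agent.H587.AltEnd.Row
import Cfsg.Agent.Lib.SolvableMinNormal

/-!
# S3846, the row of the alternating groups (task 1555, helper141)
-/

set_option autoImplicit false

namespace Cfsg.Agent.H141.SY

open Subgroup Equiv Cfsg Cfsg.Agent.H459.Rad Cfsg.Agent.H459.Iface Cfsg.Agent.H301.SY

/-- `p ^ 2` does not divide `|A_p|` -/
theorem not_sq_dvd {p : ℕ} (hpp : p.Prime) : ¬ p ^ 2 ∣ Nat.card ↥(alternatingGroup (Fin p)) := by
  intro hd
  have h1 : Nat.card ↥(alternatingGroup (Fin p)) ∣ p.factorial := by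
    have h2 := Subgroup.card_subgroup_dvd_card (alternatingGroup (Fin p))
    rwa [Nat.card_perm, Nat.card_eq_fintype_card (α := Fin p), Fintype.card_fin] at h2
  have h2 : p ^ 2 ∣ p.factorial := hd.trans h1
  obtain ⟨m, rfl⟩ : ∃ m, p = m + 1 := ⟨p - 1, by have := hpp.pos; omega⟩
  rw [Nat.factorial_succ, pow_two] at h2
  have h3 : (m + 1) ∣ m.factorial := Nat.dvd_of_mul_dvd_mul_left (by omega) h2
  have h4 := (hpp.dvd_factorial).1 h3
  omega

/-- a group with a normal `p`-subgroup `Q ≠ 1` and `p² ∤ |H|` has all elements of order `p` in `Q` -/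
theorem mem_of_not_sq {H : Type*} [Group H] [Finite H] {p : ℕ} [hp : Fact p.Prime] {Q : Subgroup H} [Q.Normal]
    (hQ : p ∣ Nat.card Q) (h : ¬ p ^ 2 ∣ Nat.card H) {x : H} (hx : orderOf x = p) : x ∈ Q := by
  by_contra hcon
  have h1 : (QuotientGroup.mk' Q x) ^ p = 1 := by
    rw [← map_pow, ← hx, pow_orderOf_eq_one, map_one]
  have h2 : QuotientGroup.mk' Q x ≠ 1 := fun h => hcon ((QuotientGroup.eq_one_iff x).1 h)
  have h3 : orderOf (QuotientGroup.mk' Q x) = p := orderOf_eq_prime h1 h2
  have h4 : p ∣ Nat.card (H ⧸ Q) := by rw [← h3]; exact orderOf_dvd_natCard _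
  apply h
  rw [Subgroup.card_eq_card_quotient_mul_card_subgroup Q, pow_two]
  exact Nat.mul_dvd_mul h4 hQ

/-- a `p`-cycle in a solvable subgroup of `A_p` -/
theorem m0_alt {p : ℕ} [hp : Fact p.Prime] {x : ↥(alternatingGroup (Fin p))}
    (hx : orderOf x = p) : M0 x := by
  have hpp : p.Prime := hp.out
  intro H hH hxH h hh
  -- `x` is a cycle
  have hxo : orderOf (x : Perm (Fin p)) = p := by rw [Subgroup.orderOf_coe]; exact hx
  have hcyc : (x : Perm (Fin p)).IsCycle :=
    Perm.isCycle_of_prime_order'' (by rw [Fintype.card_fin]; exact hpp) (by rw [Fintype.card_fin]; exact hxo)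
  have hsupp : (x : Perm (Fin p)).support = Finset.univ :=
    Finset.eq_univ_of_card _ (by rw [← hcyc.orderOf, hxo, Fintype.card_fin])
  have hne : Nonempty (Fin p) := ⟨⟨0, hpp.pos⟩⟩
  have htr : MulAction.IsPretransitive ↥H (Fin p) := by
    refine ⟨fun a b => ?_⟩
    have ha : (x : Perm (Fin p)) a ≠ a := Perm.mem_support.1 (by rw [hsupp]; exact Finset.mem_univ _)
    have hb : (x : Perm (Fin p)) b ≠ b := Perm.mem_support.1 (by rw [hsupp]; exact Finset.mem_univ _)
    obtain ⟨i, hi⟩ := hcyc.sameCycle ha hb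
    refine ⟨⟨x, hxH⟩ ^ i, ?_⟩
    have : ((((⟨x, hxH⟩ : ↥H) ^ i : ↥H) : ↥(alternatingGroup (Fin p))) : Perm (Fin p)) a = b := by
      rw [SubgroupClass.coe_zpow, SubgroupClass.coe_zpow]
      exact hi
    exact this
  have hprim : MulAction.IsPreprimitive ↥H (Fin p) :=
    MulAction.IsPreprimitive.of_prime_card (by rw [Nat.card_eq_fintype_card, Fintype.card_fin]; exact hpp)
  have hnt : Nontrivial ↥H := ⟨⟨1, ⟨x, hxH⟩, fun h => by
    have h1 : x = 1 := (congrArg Subtype.val h).symm
    rw [h1, orderOf_one] at hx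
    exact hpp.one_lt.ne hx⟩⟩
  obtain ⟨A, hA, hAc, hA1⟩ := Lib.SolvableMinNormal.exists_characteristic_abelian (G := ↥H)
  have hAn : A.Normal := inferInstance
  have hAt : MulAction.IsPretransitive ↥A (Fin p) := by
    apply MulAction.IsQuasiPreprimitive.isPretransitive_of_normal (G := ↥H)
    intro hfix
    apply hA1
    rw [Subgroup.eq_bot_iff_forall]
    intro a ha
    apply Subtype.ext
    apply Subtype.ext
    apply Equiv.ext
    intro i
    have : i ∈ MulAction.fixedPoints ↥A (Fin p) := by rw [hfix]; exact Set.mem_univ _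
    exact this ⟨a, ha⟩
  have hpA : p ∣ Nat.card A := by
    have h1 := MulAction.index_stabilizer_of_transitive ↥A (⟨0, hpp.pos⟩ : Fin p)
    rw [Nat.card_eq_fintype_card (α := Fin p), Fintype.card_fin] at h1
    have h2 := Subgroup.index_dvd_card (MulAction.stabilizer ↥A (⟨0, hpp.pos⟩ : Fin p))
    rwa [h1] at h2
  -- the Sylow subgroup of `A`
  have hAcomm : ∀ a b : ↥A, a * b = b * a := fun a b => hAc.is_comm.comm a b
  let P : Sylow p ↥A := default
  have hPn : ((P : Subgroup ↥A)).Normal := ⟨fun n hn g => by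
    rw [hAcomm g n, mul_inv_cancel_right]; exact hn⟩
  have hPc : (P : Subgroup ↥A).Characteristic := P.characteristic_of_normal hPn
  have hQn : ((P : Subgroup ↥A).map A.subtype).Normal := inferInstance
  have hpQ : p ∣ Nat.card ((P : Subgroup ↥A).map A.subtype) := by
    rw [Subgroup.card_map_of_injective A.subtype_injective]
    exact P.dvd_card_of_dvd_card hpA
  have hQp : IsPGroup p ↥((P : Subgroup ↥A).map A.subtype) := P.isPGroup'.map _
  have hH2 : ¬ p ^ 2 ∣ Nat.card ↥H := fun hd => not_sq_dvd hpp (hd.trans (Subgroup.card_subgroup_dvd_card H))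
  have hQc : Nat.card ((P : Subgroup ↥A).map A.subtype) = p := by
    obtain ⟨k, hk⟩ := IsPGroup.iff_card.1 hQp
    have h1 : k < 2 := by
      by_contra hcon
      apply hH2
      refine (pow_dvd_pow p (not_lt.1 hcon)).trans ?_
      rw [← hk]
      exact Subgroup.card_subgroup_dvd_card _
    have h2 : k ≠ 0 := by
      rintro rfl
      rw [hk, pow_zero] at hpQ
      exact hpp.one_lt.ne' (Nat.dvd_one.1 hpQ)
    have h3 : k = 1 := by omega
    rw [hk, h3, pow_one]
  have hx' : orderOf (⟨x, hxH⟩ : ↥H) = p := by rw [Subgroup.orderOf_mk]; exact hx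
  have hxQ : (⟨x, hxH⟩ : ↥H) ∈ (P : Subgroup ↥A).map A.subtype := mem_of_not_sq hpQ hH2 hx'
  have hz : zpowers (⟨x, hxH⟩ : ↥H) = (P : Subgroup ↥A).map A.subtype :=
    Subgroup.eq_of_le_of_card_ge (zpowers_le.2 hxQ) (by rw [hQc, Nat.card_zpowers, hx'])
  have h1 : (⟨h, hh⟩ : ↥H) * ⟨x, hxH⟩ * (⟨h, hh⟩ : ↥H)⁻¹ ∈ zpowers (⟨x, hxH⟩ : ↥H) := by
    rw [hz]
    exact hQn.conj_mem _ hxQ _
  obtain ⟨k, hk⟩ := mem_zpowers_iff.1 h1
  refine mem_zpowers_iff.2 ⟨k, ?_⟩
  have := congrArg Subtype.val hk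
  rw [SubgroupClass.coe_zpow] at this
  exact this

/-- the Sylow `p`-subgroups of `A_p` have order `p` -/
theorem isCyclic_sylow {p : ℕ} [hp : Fact p.Prime] (P : Sylow p ↥(alternatingGroup (Fin p))) :
    IsCyclic (P : Subgroup ↥(alternatingGroup (Fin p))) := by
  obtain ⟨k, hk⟩ := IsPGroup.iff_card.1 P.isPGroup'
  have hk2 : k < 2 := by
    by_contra hcon
    apply not_sq_dvd hp.out
    refine (pow_dvd_pow p (not_lt.1 hcon)).trans ?_
    rw [← hk]
    exact Subgroup.card_subgroup_dvd_card _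
  rcases Nat.lt_or_ge k 1 with h | h
  · have h0 : k = 0 := by omega
    rw [h0, pow_zero] at hk
    have : Subsingleton ↥(P : Subgroup ↥(alternatingGroup (Fin p))) := Nat.card_eq_one_iff_unique.1 hk |>.1
    infer_instance
  · have h1 : k = 1 := by omega
    rw [h1, pow_one] at hk
    exact isCyclic_of_prime_card hk

/-- **the row of the alternating groups** -/
theorem noya_alt {n : ℕ} (hn : 5 ≤ n) {p : ℕ} [Fact p.Prime] (hp : 5 ≤ p) {K : Type*} [Group K] [Finite K]
    (e : Nonempty (K ≃* alternatingGroup (Fin n))) : NoYA p K := by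
  obtain ⟨e⟩ := e
  refine NoYA.congr e ?_
  intro x hx hR hY
  have hpp : p.Prime := Fact.out
  obtain ⟨a, rfl⟩ := Cfsg.Agent.H568.autInner_altAll hn hpp (by omega) x hx
  have hc : center ↥(alternatingGroup (Fin n)) = ⊥ :=
    alternatingGroup.center_eq_bot (by rw [Nat.card_eq_fintype_card, Fintype.card_fin]; omega)
  rw [orderOf_injective _ (conj_injective hc)] at hx
  rcases Nat.lt_or_ge p n with h | h
  · exact Cfsg.Agent.H587.AltEnd.not_rc hp h hx hR
  · have hnp : n = p := by
      refine le_antisymm h ?_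
      have h1 : p ∣ n.factorial := by
        have h2 := Subgroup.card_subgroup_dvd_card (alternatingGroup (Fin n))
        rw [Nat.card_perm, Nat.card_eq_fintype_card (α := Fin n), Fintype.card_fin] at h2
        refine Dvd.dvd.trans ?_ h2
        rw [← hx]
        exact orderOf_dvd_natCard _
      exact (hpp.dvd_factorial).1 h1
    subst hnp
    have hs : IsSimpleGroup ↥(alternatingGroup (Fin n)) :=
      alternatingGroup.isSimpleGroup (by rw [Nat.card_eq_fintype_card, Fintype.card_fin]; omega)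
    have hna : ¬ IsMulCommutative ↥(alternatingGroup (Fin n)) := by
      intro hcm
      have h1 : center ↥(alternatingGroup (Fin n)) = ⊤ := by
        rw [eq_top_iff]
        intro a _
        rw [mem_center_iff]
        exact fun b => hcm.is_comm.comm b a
      exact bot_ne_top (hc.symm.trans h1)
    refine M0.false hna ?_ hx (YE.of_ya hc hY) (m0_alt hx)
    intro P a ha b hb
    have := isCyclic_sylow P
    exact congrArg Subtype.val (IsCyclic.commGroup.mul_comm (⟨a, ha⟩ : ↥(P : Subgroup ↥(alternatingGroup (Fin n)))) ⟨b, hb⟩)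

end Cfsg.Agent.H141.SY
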